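import Groth.Agent.RingPO.Props2
import Groth.Agent.ModPairLib.Basic
import Groth.Agent.AlgSpPts.Diag
import Groth.Agent.Adic7.Lift
import Groth.Agent.BlowUpLib.Glue
import Mathlib.RingTheory.AdicCompletion.AsTensorProduct

/-!
# Descending ideals supported in a closed fibre from a completion
-/

set_option autoImplicit false
set_option linter.style.haveILetI false
set_option backward.isDefEq.respectTransparency.types false

universe u

open CategoryTheory CategoryTheory.Limits AlgebraicGeometry TopologicalSpace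

namespace Groth.Agent.BlowNF

variable {R S : CommRingCat.{u}} (φ : R ⟶ S) {Y : Scheme.{u}} (q : Y ⟶ Spec R) (ϖ : R)

instance instIsAffineHomFstSpec : IsAffineHom (pullback.fst q (Spec.map φ)) :=
  MorphismProperty.pullback_fst (P := @IsAffineHom) _ _ inferInstance

local notation "π'" => pullback.fst q (Spec.map φ)

/-- The element `ϖ` in the sections of an open of a scheme over `Spec R`. -/
noncomputable def sec {Z : Scheme.{u}} (f : Z ⟶ Spec R) (U : Z.Opens) : Γ(Z, U) :=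
  (f.appLE ⊤ U (by simp)).hom ((Scheme.ΓSpecIso R).inv.hom ϖ)

theorem mem_basicOpen_sec {Z : Scheme.{u}} (f : Z ⟶ Spec R) (U : Z.Opens) {x : Z} (hx : x ∈ U) :
    x ∈ Z.basicOpen (sec ϖ f U) ↔ ϖ ∉ (f x).asIdeal := by
  rw [sec, Scheme.basicOpen_appLE]
  show x ∈ U ⊓ f ⁻¹ᵁ _ ↔ _
  rw [basicOpen_eq_of_affine']
  simp only [hx, Opens.mem_inf, true_and]
  rw [show (ConcreteCategory.hom (Scheme.ΓSpecIso R).hom) ((Scheme.ΓSpecIso R).inv.hom ϖ) = ϖ from
    congrArg (fun g => g.hom ϖ) (Scheme.ΓSpecIso R).inv_hom_id]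
  exact Iff.rfl

theorem sec_comp {Z : Scheme.{u}} (f : Z ⟶ Y) (U : Y.Opens) (V : Z.Opens) (e : V ≤ f ⁻¹ᵁ U) :
    sec ϖ (f ≫ q) V = (f.appLE U V e).hom (sec ϖ q U) := by
  exact (congrArg (fun g => g.hom ((Scheme.ΓSpecIso R).inv.hom ϖ))
    (Scheme.Hom.appLE_comp_appLE f q ⊤ U V (by simp) e)).symm

theorem notMem_prime_of_sec {Z : Scheme.{u}} (f : Z ⟶ Spec R) (I : Z.IdealSheafData) (U : Z.affineOpens)
    (hI : ∀ x ∈ (I.support : Set Z), ϖ ∈ (f x).asIdeal) : sec ϖ f U.1 ∈ (I.ideal U).radical := by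
  rw [Ideal.radical_eq_sInf]
  refine Ideal.mem_sInf.2 fun {p} ⟨hp, hpp⟩ => ?_
  let P : Spec Γ(Z, U.1) := ⟨p, hpp⟩
  have hxU : U.2.fromSpec P ∈ U.1 := by
    rw [← SetLike.mem_coe, ← U.2.range_fromSpec]; exact ⟨P, rfl⟩
  have hx : U.2.fromSpec P ∈ (I.support : Set Z) := by
    refine ((I.coe_support_inter U).ge ⟨?_, hxU⟩).1
    have : P ∈ U.2.fromSpec ⁻¹' Z.zeroLocus (U := U.1) (I.ideal U : Set Γ(Z, U.1)) := by
      rw [U.2.fromSpec_preimage_zeroLocus]
      exact (PrimeSpectrum.mem_zeroLocus _ _).mpr hp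
    exact this
  by_contra hnot
  have : U.2.fromSpec P ∈ Z.basicOpen (sec ϖ f U.1) := by
    rw [← U.2.fromSpec_image_basicOpen]
    exact ⟨P, hnot, rfl⟩
  exact (mem_basicOpen_sec ϖ f U.1 hxU).1 this (hI _ hx)

variable (hdense : ∀ (n : ℕ) (s : S), ∃ (r : R) (s' : S), s = φ.hom r + φ.hom ϖ ^ n * s')

include hdense in
theorem descend_local (I : (pullback q (Spec.map φ)).IdealSheafData)
    (hI : ∀ x ∈ (I.support : Set ↥(pullback q (Spec.map φ))), ϖ ∈ ((π' ≫ q) x).asIdeal)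
    (U : Y.affineOpens) :
    ((I.map π').ideal U).map ((π').appLE U.1 (π' ⁻¹ᵁ U.1) le_rfl).hom = I.ideal ⟨π' ⁻¹ᵁ U.1, U.2.preimage π'⟩ ∧
      ∃ n : ℕ, sec ϖ q U.1 ^ n ∈ (I.map π').ideal U := by
  set π := pullback.fst q (Spec.map φ)
  let P : (pullback q (Spec.map φ)).affineOpens := ⟨π ⁻¹ᵁ U.1, U.2.preimage π⟩
  let ψ : Γ(Y, U.1) →+* Γ(pullback q (Spec.map φ), P.1) := (π.appLE U.1 P.1 le_rfl).hom
  have hJ : (I.map π).ideal U = (I.ideal P).comap ψ := by
    rw [Scheme.IdealSheafData.ideal_map_of_isAffineHom]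
    congr 1
    simp [ψ, P, Scheme.Hom.app_eq_appLE]
  obtain ⟨n, hn⟩ : sec ϖ (π ≫ q) P.1 ∈ (I.ideal P).radical :=
    notMem_prime_of_sec ϖ (π ≫ q) I P hI
  rw [sec_comp q ϖ π U.1 P.1 le_rfl, ← map_pow] at hn
  have hnJ : sec ϖ q U.1 ^ n ∈ (I.map π).ideal U := by rw [hJ]; exact hn
  refine ⟨le_antisymm (by rw [hJ]; exact Ideal.map_comap_le) fun z hz => ?_, n, hnJ⟩
  let K : Ideal Γ(pullback q (Spec.map φ), P.1) := Ideal.span {ψ (sec ϖ q U.1 ^ n)}
  have hK : K ≤ ((I.map π).ideal U).map ψ :=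
    (Ideal.span_singleton_le_iff_mem _).2 (Ideal.mem_map_of_mem _ hnJ)
  let T := (((Ideal.Quotient.mk K).comp ψ).range).comap (Ideal.Quotient.mk K)
  have hpo := RingPO.isPushout_appLE_of_isPullback (IsPullback.of_hasPullback q (Spec.map φ))
    (isAffineOpen_top (Spec R)) U.2 (g := q) le_top (isAffineOpen_top (Spec S)) (by simp)
    P.2 rfl le_top
  have htop : T = ⊤ := by
    rw [eq_top_iff, ← AlgSpPts.closure_eq_top_of_isPushout hpo, Subring.closure_le]
    rintro _ (⟨a, rfl⟩ | ⟨s, rfl⟩)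
    · exact ⟨a, rfl⟩
    obtain ⟨s, rfl⟩ := (Scheme.ΓSpecIso S).symm.commRingCatIsoToRingEquiv.surjective s
    obtain ⟨r, s', rfl⟩ := hdense n s
    refine ⟨(q.appLE ⊤ U.1 le_top).hom ((Scheme.ΓSpecIso R).inv.hom r), ?_⟩
    have hw : ∀ c : R, ψ ((q.appLE ⊤ U.1 le_top).hom ((Scheme.ΓSpecIso R).inv.hom c)) =
        ((pullback.snd q (Spec.map φ)).appLE ⊤ P.1 le_top).hom ((Scheme.ΓSpecIso S).inv.hom (φ.hom c)) := fun c => by
      have h1 := congrArg (fun g => g.hom ((Scheme.ΓSpecIso R).inv.hom c)) hpo.w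
      simp only [CommRingCat.hom_comp, RingHom.comp_apply] at h1
      refine h1.trans (congrArg _ ?_)
      have h2 := congrArg (fun g => g.hom c) (Scheme.ΓSpecIso_inv_naturality φ)
      simp only [CommRingCat.hom_comp, RingHom.comp_apply] at h2
      rw [Scheme.Hom.appLE]
      simp only [CommRingCat.hom_comp, RingHom.comp_apply]
      erw [(Spec S).presheaf.map_id]
      exact h2.symm
    refine (Ideal.Quotient.eq.2 ?_)
    show ψ _ - ((pullback.snd q (Spec.map φ)).appLE ⊤ P.1 le_top).hom ((Scheme.ΓSpecIso S).inv.hom _) ∈ K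
    rw [map_add, map_add, ← hw, sub_add_cancel_left, map_mul, map_mul, map_pow, map_pow, ← hw,
      Ideal.neg_mem_iff]
    refine Ideal.mul_mem_right _ _ (Ideal.mem_span_singleton.2 (dvd_of_eq ?_))
    rw [map_pow]
    rfl
  obtain ⟨a, ha⟩ : z ∈ T := htop.ge trivial
  have hmem : ψ a - z ∈ K := Ideal.Quotient.eq.1 ha
  have haI : ψ a ∈ I.ideal P := by
    have : ψ a - z ∈ I.ideal P := (hK.trans (by rw [hJ]; exact Ideal.map_comap_le)) hmem
    simpa using (I.ideal P).add_mem this hz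
  have h2 : ψ a ∈ ((I.map π).ideal U).map ψ := Ideal.mem_map_of_mem _ (by rw [hJ]; exact haI)
  simpa using Ideal.sub_mem _ h2 (hK hmem)

include hdense in
/-- An ideal supported on `V(ϖ)` descends along a base change which is dense modulo powers of `ϖ`. -/
theorem descend (I : (pullback q (Spec.map φ)).IdealSheafData)
    (hI : ∀ x ∈ (I.support : Set ↥(pullback q (Spec.map φ))), ϖ ∈ ((π' ≫ q) x).asIdeal) :
    (I.map π').comap π' = I ∧ ∀ y ∈ ((I.map π').support : Set Y), ϖ ∈ (q y).asIdeal := by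
  set π := pullback.fst q (Spec.map φ)
  refine ⟨Scheme.IdealSheafData.ext_of_iSup_eq_top
    (fun U : Y.affineOpens => (⟨π ⁻¹ᵁ U.1, U.2.preimage π⟩ : (pullback q (Spec.map φ)).affineOpens)) ?_ fun U => ?_,
    fun y hy => ?_⟩
  · refine top_le_iff.1 fun x _ => ?_
    obtain ⟨_, ⟨V, hV, rfl⟩, hxV, -⟩ := Y.isBasis_affineOpens.exists_subset_of_mem_open
      (Set.mem_univ (π x)) isOpen_univ
    exact Opens.mem_iSup.2 ⟨⟨V, hV⟩, hxV⟩
  · rw [ModPairLib.ideal_comap _ π U _ le_rfl]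
    exact (descend_local φ q ϖ hdense I hI U).1
  · obtain ⟨_, ⟨V, hV, rfl⟩, hyV, -⟩ := Y.isBasis_affineOpens.exists_subset_of_mem_open
      (Set.mem_univ y) isOpen_univ
    obtain ⟨n, hn⟩ := (descend_local φ q ϖ hdense I hI ⟨V, hV⟩).2
    have hz := ((I.map π).coe_support_inter ⟨V, hV⟩).le ⟨hy, hyV⟩
    by_contra hnot
    have h1 := (Y.mem_zeroLocus_iff _ _).1 hz.1 _ hn
    refine h1 ?_
    obtain rfl | n := n
    · rw [pow_zero, Scheme.basicOpen_of_isUnit _ isUnit_one]; exact hyV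
    · rw [Scheme.basicOpen_pow _ (h := n.succ_pos)]
      exact (mem_basicOpen_sec ϖ q V hyV).2 hnot

end Groth.Agent.BlowNF
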