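import Groth.Agent.RegBlow6.FlatCentreScheme
import Groth.Agent.BlowUpLib.Glue
import Mathlib.RingTheory.Flat.EquationalCriterion

/-!
# Flatness of a blow-up along a centre with flat thickenings
-/

set_option autoImplicit false
set_option linter.style.haveILetI false
set_option backward.isDefEq.respectTransparency.types false

universe u

open CategoryTheory CategoryTheory.Limits AlgebraicGeometry TopologicalSpace

namespace Groth.Agent.BlowNF

open RegBlow6

section algebra

variable (R : Type u) {A : Type u} [CommRing R] [CommRing A] [Algebra R A] (I : Ideal A) {a : A} (ha : a ∈ I)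

theorem flat_powR [Module.Flat R A] (hflat : ∀ n : ℕ, Module.Flat R (A ⧸ I ^ (n + 1))) (m : ℕ) :
    Module.Flat R (powR R I m) := by
  haveI : Module.Flat R (A ⧸ I ^ m) := by
    cases m with
    | zero =>
      haveI : Subsingleton (A ⧸ I ^ 0) := Ideal.Quotient.subsingleton_iff.2 (by rw [pow_zero, Ideal.one_eq_top])
      infer_instance
    | succ n => exact hflat n
  refine KFlatLib.flat_of_flat_quotient (f := (powR R I m).subtype)
    (g := (Ideal.Quotient.mkₐ R (I ^ m)).toLinearMap) Subtype.val_injective ?_ Ideal.Quotient.mk_surjective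
  intro z
  exact ⟨fun hz => ⟨⟨z, Ideal.Quotient.eq_zero_iff_mem.1 hz⟩, rfl⟩,
    fun ⟨y, hy⟩ => hy ▸ Ideal.Quotient.eq_zero_iff_mem.2 y.2⟩

/-- An affine blow-up algebra is flat if the ring and all thickenings of the centre are. -/
theorem flat_affineAlgebra [Module.Flat R A] (hflat : ∀ n : ℕ, Module.Flat R (A ⧸ I ^ (n + 1)))
    (ha : a ∈ I) : Module.Flat R (BlowUp.affineAlgebra A I a) := by
  classical
  rw [Module.Flat.iff_forall_isTrivialRelation]
  intro l r x hx
  choose n z hz hq using fun i => BlowAlgX.exists_eq I a ha (x i).2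
  let N := Finset.univ.sup n
  have hle : ∀ i, n i ≤ N := fun i => Finset.le_sup (Finset.mem_univ i)
  have hmem : ∀ i, a ^ (N - n i) * z i ∈ powR R I N := fun i => by
    have := Ideal.mul_mem_mul (Ideal.pow_mem_pow ha (N - n i)) (hz i)
    rw [← pow_add, Nat.sub_add_cancel (hle i)] at this
    exact this
  let y : Fin l → powR R I N := fun i => ⟨a ^ (N - n i) * z i, hmem i⟩
  have hy : ∀ i, divPow R I ha N (y i) = x i := fun i => by
    refine eq_of_mul_pow (n := N) ?_
    rw [divPow_spec]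
    refine Subtype.ext ?_
    show algebraMap A (Localization.Away a) (a ^ (N - n i) * z i) = (x i).1 * algebraMap A _ (a ^ N)
    rw [map_mul, ← hq i, mul_left_comm, ← map_mul, ← pow_add, Nat.sub_add_cancel (hle i)]
  have h0 : divPow R I ha N (∑ i, r i • y i) = 0 := by
    simp only [map_sum, map_smul, hy]
    exact hx
  let w : powR R I N := ∑ i, r i • y i
  have h1 : algebraMap A (Localization.Away a) w.1 = 0 := by
    have := congrArg Subtype.val (divPow_spec R I ha N w)
    rw [h0, zero_mul] at this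
    exact this.symm
  obtain ⟨⟨_, K, rfl⟩, hK⟩ := (IsLocalization.map_eq_zero_iff (Submonoid.powers a) (Localization.Away a) _).1 h1
  have hmem' : ∀ i, a ^ K * (y i).1 ∈ powR R I (N + K) := fun i => by
    have := Ideal.mul_mem_mul (Ideal.pow_mem_pow ha K) (y i).2
    rw [← pow_add, Nat.add_comm] at this
    exact this
  let y' : Fin l → powR R I (N + K) := fun i => ⟨a ^ K * (y i).1, hmem' i⟩
  have hrel : ∑ i, r i • y' i = 0 := by
    refine Subtype.ext ?_
    simp only [Submodule.coe_sum, Submodule.coe_smul, Submodule.coe_zero, y']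
    rw [← hK]
    simp only [w, Submodule.coe_sum, Submodule.coe_smul, Finset.mul_sum, mul_smul_comm]
  haveI := flat_powR R I hflat (N + K)
  obtain ⟨k, c, v, hv, hc⟩ := (Module.Flat.iff_forall_isTrivialRelation.1 (flat_powR R I hflat (N + K))) hrel
  refine ⟨k, c, fun j => divPow R I ha (N + K) (v j), fun i => ?_, hc⟩
  rw [← hy i, ← divPow_mul_pow R I ha N K (y i) (hmem' i)]
  show divPow R I ha (N + K) (y' i) = _
  rw [hv i, map_sum]
  simp only [map_smul]

end algebra

variable {X X' S : Scheme.{u}}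

/-- A blow-up is flat over the base if the scheme and all thickenings of the centre are. -/
theorem flat_blowUp (g : X ⟶ S) [Flat g] {𝓘 : X.IdealSheafData}
    (hflat : ∀ n : ℕ, Flat ((𝓘 ^ (n + 1)).subschemeι ≫ g)) {b : X' ⟶ X}
    (hb : BlowUp.IsBlowUp b 𝓘) : Flat (b ≫ g) := by
  suffices hloc : ∀ p : X', ∃ (Z : Scheme.{u}) (j : Z ⟶ X'),
      IsOpenImmersion j ∧ p ∈ Set.range j ∧ Flat (j ≫ b ≫ g) by
    choose Z j hj hp hs using hloc
    refine IsZariskiLocalAtSource.of_iSup_eq_top (P := @Flat) (fun p => (j p).opensRange)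
      (top_le_iff.1 fun p _ => Opens.mem_iSup.2 ⟨p, hp p⟩) fun p => ?_
    rw [← Scheme.Hom.isoOpensRange_inv_comp (j p), Category.assoc]
    haveI := hs p
    infer_instance
  intro p
  obtain ⟨_, ⟨V, hV, rfl⟩, hpV, -⟩ := S.isBasis_affineOpens.exists_subset_of_mem_open
    (Set.mem_univ (g (b p))) isOpen_univ
  obtain ⟨_, ⟨U, hU, rfl⟩, hpU, e⟩ := X.isBasis_affineOpens.exists_subset_of_mem_open
    (show b p ∈ (g ⁻¹ᵁ V : Set X) from hpV) (g ⁻¹ᵁ V).2
  obtain ⟨a, ha, j, hjo, hpj, hjb⟩ := exists_chart hb ⟨U, hU⟩ p hpU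
  refine ⟨_, j, hjo, hpj, ?_⟩
  letI := (g.appLE V U e).hom.toAlgebra
  haveI : Module.Flat Γ(S, V) Γ(X, U) := RingHom.flat_algebraMap_iff.1 (g.flat_appLE hV hU e)
  let B := BlowUp.affineAlgebra Γ(X, U) (𝓘.ideal ⟨U, hU⟩) a
  have hfac : j ≫ b ≫ g = Spec.map (CommRingCat.ofHom (algebraMap Γ(S, V) B)) ≫ hV.fromSpec := by
    rw [reassoc_of% hjb, ← IsAffineOpen.SpecMap_appLE_fromSpec g hV hU e]
    simp only [← Category.assoc, ← Spec.map_comp]
    rfl
  rw [hfac]
  haveI : Flat (Spec.map (CommRingCat.ofHom (algebraMap Γ(S, V) B))) := by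
    rw [HasRingHomProperty.Spec_iff (P := @Flat)]
    exact RingHom.flat_algebraMap_iff.2 (flat_affineAlgebra Γ(S, V) (𝓘.ideal ⟨U, hU⟩)
      (fun n => flat_thickening g hflat ⟨V, hV⟩ ⟨U, hU⟩ e n) ha)
  infer_instance

/-- Transport of a base-changed blow-up to given pullback squares. -/
theorem isBlowUp_of_squares {T XT XT' : Scheme.{u}} (f : X ⟶ S) {𝓘 : X.IdealSheafData}
    (hflat : ∀ n : ℕ, Flat ((𝓘 ^ (n + 1)).subschemeι ≫ f))
    (b : X' ⟶ X) (hb : BlowUp.IsBlowUp b 𝓘)
    (g : T ⟶ S) (pX : XT ⟶ X) (fT : XT ⟶ T) (hX : IsPullback pX fT f g)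
    (pX' : XT' ⟶ X') (bT : XT' ⟶ XT) (hX' : IsPullback pX' bT b pX) :
    BlowUp.IsBlowUp bT (𝓘.comap pX) := by
  have hbig : IsPullback pX' (bT ≫ fT) (b ≫ f) g := hX'.paste_vert hX
  have h1 := RegBlow6.isBlowUp_baseChange f hflat hb g
  let e : XT ≅ pullback f g := hX.isoPullback
  let e' : XT' ≅ pullback (b ≫ f) g := hbig.isoPullback
  have he : bT = e'.hom ≫ CInt.baseChangeOver b f g ≫ e.inv := by
    rw [← Category.assoc, Iso.eq_comp_inv]
    refine pullback.hom_ext ?_ ?_
    · rw [Category.assoc, Category.assoc, RegBlow6.baseChangeOver_fst, hX.isoPullback_hom_fst,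
        hbig.isoPullback_hom_fst_assoc, hX'.w]
    · rw [Category.assoc, Category.assoc, RegBlow6.baseChangeOver_snd, hX.isoPullback_hom_snd,
        hbig.isoPullback_hom_snd]
  have hc : 𝓘.comap pX = (𝓘.comap (pullback.fst f g)).comap e.hom := by
    rw [← Scheme.IdealSheafData.comap_comp, hX.isoPullback_hom_fst]
  rw [he, hc]
  refine BlowUpLib.isBlowUp_iso_comp e'.hom (BlowUpLib.isBlowUp_comp_iso e.inv ?_)
  rw [← Scheme.IdealSheafData.comap_comp, Iso.inv_hom_id, Scheme.IdealSheafData.comap_id]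
  exact h1

end Groth.Agent.BlowNF
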