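import Groth.Agent.BlowNF.Smooth
import Groth.Agent.QRegBC.Lift
import Groth.Agent.SmoothImmX.Basic
import Groth.Agent.RegBlow6.Geometry
import Groth.Agent.RegConormal.Split

/-!
# Blowing up a smooth centre in a smooth scheme
-/

set_option autoImplicit false
set_option linter.style.haveILetI false
set_option backward.isDefEq.respectTransparency.types false

universe u

open CategoryTheory CategoryTheory.Limits AlgebraicGeometry TopologicalSpace

namespace Groth.Agent.BlowNF

open Groth.Agent.NFlat6

/-- The ideal of a quasi-regular sequence has free associated graded pieces. -/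
theorem isNormallyFlat_span_of_isQuasiRegular {A : Type u} [CommRing A] {r : ℕ} (f : Fin r → A)
    (hq : CAlgX.IsQuasiRegular f) : EGA4.IsNormallyFlat (Ideal.span (Set.range f)) A := by
  intro k
  let J := Ideal.span (Set.range f)
  let ψ : Pc J A k →ₗ[A] A ⧸ J ^ (k + 1) :=
    Submodule.liftQ _ ((Submodule.mkQ (J ^ (k + 1))) ∘ₗ (Pw J A k).subtype) fun y hy => by
      have h1 := (mem_smul_top_iff_val y).1 hy
      simp only [Pw, Ideal.smul_eq_mul, Ideal.mul_top] at h1
      exact (Submodule.Quotient.mk_eq_zero _).2 h1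
  have hψ : Function.Injective ψ := (injective_iff_map_eq_zero ψ).2 fun z hz => by
    obtain ⟨y, rfl⟩ := Submodule.Quotient.mk_surjective _ z
    refine (pc_mk_eq_zero _).2 ?_
    simp only [Pw, Ideal.smul_eq_mul, Ideal.mul_top]
    exact (Submodule.Quotient.mk_eq_zero _).1 hz
  have hrange : LinearMap.range ψ = LinearMap.range (QRegBC.iota f k hq) := by
    rw [← (LinearMap.exact_iff).1 (QRegBC.iota_exact f k hq)]
    ext z
    constructor
    · rintro ⟨x, rfl⟩
      obtain ⟨⟨y, hy⟩, rfl⟩ := Submodule.Quotient.mk_surjective _ x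
      simp only [Pw, Ideal.smul_eq_mul, Ideal.mul_top] at hy
      exact (Submodule.Quotient.mk_eq_zero _).2 hy
    · intro hz
      obtain ⟨b, rfl⟩ := Submodule.Quotient.mk_surjective _ z
      have hb : b ∈ J ^ k := (Submodule.Quotient.mk_eq_zero _).1 hz
      refine ⟨Submodule.Quotient.mk ⟨b, ?_⟩, rfl⟩
      simp only [Pw, Ideal.smul_eq_mul, Ideal.mul_top]
      exact hb
  let e : (QRegBC.Mon r k → A ⧸ J) ≃ₗ[A] Pc J A k :=
    (LinearEquiv.ofInjective _ (QRegBC.iota_injective f k hq)).trans
      ((LinearEquiv.ofEq _ _ hrange.symm).trans (LinearEquiv.ofInjective ψ hψ).symm)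
  exact Module.Flat.of_linearEquiv (e.extendScalarsOfSurjective (S := A ⧸ J) Ideal.Quotient.mk_surjective).symm

/-- A regular closed immersion is normally flat. -/
theorem nflat_of_regClosed {X : Scheme.{u}} (I : X.IdealSheafData)
    (hI : Mor2.IsRegularClosedImmersion I.subschemeι) : NFlat I := by
  intro y
  obtain ⟨U, hU, hyU, rs, hrs, hker⟩ := hI.2 y
  rw [RegConormal.ker_stalkMap_eq_map I.subschemeι y ⟨U, hU⟩ hyU
    (IsZariskiLocalAtTarget.restrict (P := @IsClosedImmersion) inferInstance U), I.ker_subschemeι_app ⟨U, hU⟩]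
  rw [Scheme.IdealSheafData.ker_subschemeι] at hker
  rw [hker]
  let a : Fin rs.length → Γ(X, U) := rs.get
  have hq : CAlgX.IsQuasiRegular a :=
    S5802.result _ _ a (by rw [List.ofFn_get]; exact hrs.toIsWeaklyRegular)
  letI := QCoh.stalkAlg (X := X) (U := U) (x := I.subschemeι y) hyU
  haveI := QCoh.isLocalization_stalk' hU hyU
  have hq' := QRegBC.isQuasiRegular_localization (R := X.presheaf.stalk (I.subschemeι y))
    (hU.primeIdealOf ⟨I.subschemeι y, hyU⟩).asIdeal.primeCompl a hq
  have h := isNormallyFlat_span_of_isQuasiRegular _ hq'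
  have hspan : Ideal.span (Set.range fun i => algebraMap Γ(X, U) (X.presheaf.stalk (I.subschemeι y)) (a i)) =
      (Ideal.ofList rs).map (X.presheaf.germ U (I.subschemeι y) hyU).hom := by
    rw [Ideal.ofList, Ideal.map_span, show {r | r ∈ rs} = Set.range a from (Set.range_list_get rs).symm,
      ← Set.range_comp]
    rfl
  rw [hspan] at h
  exact h

variable {Z X X' S : Scheme.{u}}

/-- The exceptional divisor of a blow-up with regularly immersed centre is smooth over the centre. -/
theorem smooth_exceptional_of_regClosed (I : X.IdealSheafData) (hI : Mor2.IsRegularClosedImmersion I.subschemeι)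
    (b : X' ⟶ X) (hb : BlowUp.IsBlowUp b I) (f : (BlowUp.exceptional b I).subscheme ⟶ I.subscheme)
    (hf : f ≫ I.subschemeι = (BlowUp.exceptional b I).subschemeι ≫ b) : Smooth f := by
  have aux : ∀ (J : X.IdealSheafData) (_ : J = I.subschemeι.ker)
      (f : (BlowUp.exceptional b J).subscheme ⟶ I.subscheme),
      BlowUp.IsBlowUp b J → f ≫ I.subschemeι = (BlowUp.exceptional b J).subschemeι ≫ b → Smooth f := by
    rintro J rfl f hb hf
    exact RegBlow6.smooth_exceptional I.subschemeι hI b hb f hf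
  exact aux I I.ker_subschemeι.symm f hb hf

/-- Blowing up a smooth centre in a smooth scheme gives a smooth scheme with smooth exceptional divisor. -/
theorem smooth_of_smooth_pair (q : X ⟶ S) [Smooth q] (i : Z ⟶ X) [IsClosedImmersion i]
    [Smooth (i ≫ q)] (b : X' ⟶ X) (hb : BlowUp.IsBlowUp b i.ker) :
    Smooth (b ≫ q) ∧ Smooth ((BlowUp.exceptional b i.ker).subschemeι ≫ b ≫ q) := by
  set I := i.ker with hIdef
  have hι : I.subschemeι = inv i.toImage ≫ i := by
    rw [IsIso.eq_inv_comp, Scheme.Hom.toImage_imageι]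
  haveI hsm : Smooth (I.subschemeι ≫ q) := by
    rw [hι, Category.assoc]
    infer_instance
  have hreg := SmoothImmX.regClosed_of_smooth q I.subschemeι
  have hnf := nflat_of_regClosed I hreg
  let f : (BlowUp.exceptional b I).subscheme ⟶ I.subscheme := (I.comapIso b).hom ≫ pullback.snd _ _
  have hf : f ≫ I.subschemeι = (BlowUp.exceptional b I).subschemeι ≫ b := by
    simp only [f, Category.assoc, ← pullback.condition]
    rw [Scheme.IdealSheafData.comapIso_hom_fst_assoc]
  haveI hfs : Smooth f := smooth_exceptional_of_regClosed I hreg b hb f hf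
  haveI hE : Smooth ((BlowUp.exceptional b I).subschemeι ≫ b ≫ q) := by
    rw [← reassoc_of% hf]
    infer_instance
  refine ⟨?_, hE⟩
  haveI := lfp_blowUp hnf hb q
  rw [← Scheme.Hom.smoothLocus_eq_top_iff]
  refine top_le_iff.1 fun x _ => ?_
  by_cases hx : b x ∈ (I.support : Set X)
  · have hxE : x ∈ ((BlowUp.exceptional b I).support : Set X') := by
      show x ∈ ((I.comap b).support : Set X')
      rw [Scheme.IdealSheafData.support_comap]
      exact hx
    rw [← Scheme.IdealSheafData.range_subschemeι] at hxE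
    obtain ⟨x', rfl⟩ := hxE
    obtain ⟨W, hW, hWs⟩ := smooth_nhd_of_effCartier (b ≫ q) hb.1 x' ⟨⊤, trivial, inferInstance⟩
    have : (⟨_, hW⟩ : (W : Scheme.{u})) ∈ W.ι ⁻¹ᵁ (b ≫ q).smoothLocus := by
      rw [Scheme.Hom.preimage_smoothLocus_eq, Scheme.Hom.smoothLocus_eq_top]; trivial
    exact this
  · let U₀ := ModPair.interior I
    haveI := BlowUpLib.isIso_restrict hb U₀ le_rfl
    have hxU : x ∈ b ⁻¹ᵁ U₀ := hx
    haveI : IsOpenImmersion ((b ⁻¹ᵁ U₀).ι ≫ b) := by
      rw [← morphismRestrict_ι]
      infer_instance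
    have : (⟨x, hxU⟩ : ((b ⁻¹ᵁ U₀ : X'.Opens) : Scheme.{u})) ∈ (b ⁻¹ᵁ U₀).ι ⁻¹ᵁ (b ≫ q).smoothLocus := by
      rw [Scheme.Hom.preimage_smoothLocus_eq]
      haveI : Smooth ((b ⁻¹ᵁ U₀).ι ≫ b ≫ q) := by rw [← Category.assoc]; infer_instance
      rw [Scheme.Hom.smoothLocus_eq_top]; trivial
    exact this

end Groth.Agent.BlowNF
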